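import Groth.Agent.H1Fields.SqZeroFlat
import Mathlib.Data.ZMod.Basic
import Mathlib.LinearAlgebra.TensorProduct.Quotient
import Mathlib.RingTheory.RingHom.Flat

/-!
# Regular equations and flat quotients over a flat `ℤ/p²`-algebra
-/

set_option autoImplicit false
set_option linter.style.haveILetI false
set_option backward.isDefEq.respectTransparency false
set_option backward.isDefEq.respectTransparency.types false
set_option maxHeartbeats 1000000

universe u

open TensorProduct

namespace Groth.Agent.NCDLift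

/-- The ring `ℤ/p²`. -/
abbrev Zp2 (p : ℕ) : Type u := ULift.{u} (ZMod (p ^ 2))

variable {p : ℕ} [Fact p.Prime]

theorem sq_eq_zero {A : Type u} [CommRing A] (φ : Zp2.{u} p →+* A) : (p : A) * p = 0 := by
  have h : ((p : Zp2.{u} p) * p) = 0 := by
    refine (ULift.ringEquiv (R := ZMod (p ^ 2))).injective ?_
    rw [map_mul, map_natCast, map_zero, ← Nat.cast_mul, ← pow_two]
    exact ZMod.natCast_self _
  have h2 := congrArg φ h
  rwa [map_mul, map_natCast, map_zero] at h2

theorem exists_eq_mul_of_mul_eq_zero (b : Zp2.{u} p) (h : (p : Zp2.{u} p) * b = 0) : ∃ c, b = (p : Zp2.{u} p) * c := by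
  let e := (ULift.ringEquiv : Zp2.{u} p ≃+* ZMod (p ^ 2))
  have h1 : (p : ZMod (p ^ 2)) * e b = 0 := by
    rw [← map_natCast e, ← map_mul, h, map_zero]
  haveI : NeZero (p ^ 2) := ⟨pow_ne_zero 2 (Fact.out : p.Prime).ne_zero⟩
  rw [← ZMod.natCast_zmod_val (e b), ← Nat.cast_mul, ZMod.natCast_eq_zero_iff] at h1
  obtain ⟨c, hc⟩ := Nat.dvd_of_mul_dvd_mul_left (Fact.out : p.Prime).pos ((pow_two p).symm.dvd.trans h1)
  refine ⟨c, e.injective ?_⟩
  rw [map_mul, map_natCast, map_natCast, ← ZMod.natCast_zmod_val (e b), hc, Nat.cast_mul]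

/-- Annihilators of elements survive flat extension. -/
theorem ann_of_flat_aux {R A : Type u} [CommRing R] [CommRing A] (φ : R →+* A) (hφ : φ.Flat) (r : R)
    (hr : ∀ b, r * b = 0 → ∃ c, b = r * c) (a : A) (h : φ r * a = 0) : ∃ b, a = φ r * b := by
  classical
  letI := φ.toAlgebra
  haveI : Module.Flat R A := hφ
  have hrel : ∑ i : Fin 1, (fun _ : Fin 1 => r) i • (fun _ : Fin 1 => a) i = 0 := by
    rw [Fin.sum_univ_one]
    exact h
  obtain ⟨K, b, y, hx, hb⟩ := Module.Flat.isTrivialRelation_of_sum_smul_eq_zero (R := R) (M := A) (f := fun _ : Fin 1 => r)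
    (x := fun _ : Fin 1 => a) hrel
  have hc : ∀ j, ∃ c, b 0 j = r * c := fun j => hr _ (by
    have := hb j
    rwa [Fin.sum_univ_one] at this)
  choose c hc using hc
  refine ⟨∑ j, φ (c j) * y j, ?_⟩
  rw [Finset.mul_sum]
  refine (hx 0).trans (Finset.sum_congr rfl fun j _ => ?_)
  show φ (b 0 j) * y j = _
  rw [hc, map_mul, mul_assoc]

/-- The annihilator of `p` in a flat `ℤ/p²`-algebra. -/
theorem ann_of_flat {A : Type u} [CommRing A] (φ : Zp2.{u} p →+* A) (hφ : φ.Flat) (a : A) (h : (p : A) * a = 0) :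
    ∃ b, a = (p : A) * b := by
  simpa only [map_natCast] using
    ann_of_flat_aux φ hφ (p : Zp2.{u} p) exists_eq_mul_of_mul_eq_zero a (by rwa [map_natCast])

variable {A A₀ : Type u} [CommRing A] [CommRing A₀] (π : A →+* A₀)

/-- A lift of a regular equation is regular. -/
theorem regular_of_map (hker : RingHom.ker π = Ideal.span {(p : A)}) (hann : ∀ a : A, (p : A) * a = 0 → ∃ b, a = (p : A) * b)
    (h2 : (p : A) * p = 0) {t : A} (ht : ∀ a, π t * a = 0 → a = 0) (a : A) (h : t * a = 0) : a = 0 := by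
  have h1 : a ∈ RingHom.ker π := ht _ (by rw [← map_mul, h, map_zero])
  rw [hker] at h1
  obtain ⟨b, rfl⟩ := Ideal.mem_span_singleton'.1 h1
  obtain ⟨c, hc⟩ := hann (t * b) (by rw [← h]; ring)
  have h4 : b ∈ RingHom.ker π := ht _ (by
    rw [← map_mul, hc, map_mul, RingHom.mem_ker.1 (hker.ge (Ideal.mem_span_singleton_self (p : A))), zero_mul])
  rw [hker] at h4
  obtain ⟨d, rfl⟩ := Ideal.mem_span_singleton'.1 h4
  rw [mul_assoc, h2, mul_zero]

/-- An ideal with flat quotient and regular principal reduction is regular principal. -/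
theorem exists_generator (hπ : Function.Surjective π) (hker : RingHom.ker π = Ideal.span {(p : A)})
    (hann : ∀ a : A, (p : A) * a = 0 → ∃ b, a = (p : A) * b) (h2 : (p : A) * p = 0) (J : Ideal A)
    (hJ : ∀ a, (p : A) * a ∈ J → ∃ b, a - (p : A) * b ∈ J)
    {t : A₀} (hJt : J.map π = Ideal.span {t}) (ht : ∀ a, t * a = 0 → a = 0) :
    ∃ s : A, J = Ideal.span {s} ∧ ∀ a, s * a = 0 → a = 0 := by
  obtain ⟨s, hs, hst⟩ := (Ideal.mem_map_iff_of_surjective π hπ).1 (hJt.ge (Ideal.mem_span_singleton_self t))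
  have hp : π (p : A) = 0 := RingHom.mem_ker.1 (hker.ge (Ideal.mem_span_singleton_self (p : A)))
  have hstep : ∀ x ∈ J, ∃ c a, x = c * s + (p : A) * a := fun x hx => by
    have h1 := Ideal.mem_map_of_mem π hx
    rw [hJt] at h1
    obtain ⟨c₀, hc₀⟩ := Ideal.mem_span_singleton'.1 h1
    obtain ⟨c, rfl⟩ := hπ c₀
    have h3 : x - c * s ∈ RingHom.ker π := by rw [RingHom.mem_ker, map_sub, map_mul, hst, hc₀, sub_self]
    rw [hker] at h3
    obtain ⟨a, ha⟩ := Ideal.mem_span_singleton'.1 h3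
    exact ⟨c, a, by rw [mul_comm (p : A) a, ha]; ring⟩
  refine ⟨s, le_antisymm (fun x hx => ?_) ((Ideal.span_singleton_le_iff_mem _).2 hs),
    regular_of_map π hker hann h2 (hst ▸ ht)⟩
  obtain ⟨c, a, rfl⟩ := hstep x hx
  have ha : (p : A) * a ∈ J := (Submodule.add_mem_iff_right J (J.mul_mem_left c hs)).1 hx
  obtain ⟨b, hb⟩ := hJ a ha
  obtain ⟨d, e, hde⟩ := hstep _ hb
  rw [Ideal.mem_span_singleton']
  exact ⟨c + (p : A) * d, by linear_combination (-(p : A)) * hde - (e + b) * h2⟩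

/-- The quotient by a lift of a regular equation with flat quotient is flat. -/
theorem flat_quotient {B B₀ : Type u} [CommRing B] [CommRing B₀] (φ : B →+* B₀) (hφ : Function.Surjective φ)
    (hkφ : RingHom.ker φ = Ideal.span {(p : B)}) (h2B : (p : B) * p = 0)
    (c : B →+* A) (c₀ : B₀ →+* A₀) (hc : ∀ b, π (c b) = c₀ (φ b))
    (hπ : Function.Surjective π) (hker : RingHom.ker π = Ideal.span {(p : A)})
    (hann : ∀ a : A, (p : A) * a = 0 → ∃ b, a = (p : A) * b)
    {s : A} (hs : ∀ a, π s * a = 0 → a = 0) (hfl : ((Ideal.Quotient.mk (Ideal.span {π s})).comp c₀).Flat) :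
    ((Ideal.Quotient.mk (Ideal.span {s})).comp c).Flat := by
  classical
  let I : Ideal B := Ideal.span {(p : B)}
  letI : Algebra B (A ⧸ Ideal.span {s}) := ((Ideal.Quotient.mk (Ideal.span {s})).comp c).toAlgebra
  let φ' : B ⧸ I ≃+* B₀ := (Ideal.quotEquivOfEq hkφ.symm).trans (RingHom.quotientKerEquivOfSurjective hφ)
  let c' : B ⧸ I →+* A₀ ⧸ Ideal.span {π s} := ((Ideal.Quotient.mk (Ideal.span {π s})).comp c₀).comp φ'.toRingHom
  letI : Algebra (B ⧸ I) (A₀ ⧸ Ideal.span {π s}) := c'.toAlgebra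
  haveI hflI : Module.Flat (B ⧸ I) (A₀ ⧸ Ideal.span {π s}) := (RingHom.Flat.of_bijective φ'.bijective).comp hfl
  letI : Algebra B (A₀ ⧸ Ideal.span {π s}) := (c'.comp (Ideal.Quotient.mk I)).toAlgebra
  haveI : IsScalarTower B (B ⧸ I) (A₀ ⧸ Ideal.span {π s}) := .of_algebraMap_eq fun x => rfl
  let L : A ⧸ Ideal.span {s} →ₐ[B] A₀ ⧸ Ideal.span {π s} :=
    { Ideal.quotientMap (Ideal.span {π s}) π (Ideal.span_le.2 fun y hy => by
        rw [Set.mem_singleton_iff] at hy
        subst hy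
        exact Ideal.mem_span_singleton_self _) with
      commutes' := fun b => by
        show Ideal.Quotient.mk _ (π (c b)) = Ideal.Quotient.mk _ (c₀ (φ' (Ideal.Quotient.mk I b)))
        rw [hc]
        rfl }
  have hLmk : ∀ a, L (Ideal.Quotient.mk _ a) = Ideal.Quotient.mk _ (π a) := fun a => rfl
  have hL : Function.Surjective L := fun y => by
    obtain ⟨a₀, rfl⟩ := Ideal.Quotient.mk_surjective y
    obtain ⟨a, rfl⟩ := hπ a₀
    exact ⟨_, hLmk a⟩
  have hsm : ∀ (b : B) (a : A), b • Ideal.Quotient.mk (Ideal.span {s}) a = Ideal.Quotient.mk _ (c b * a) :=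
    fun b a => by rw [Algebra.smul_def]; rfl
  have hkerL : LinearMap.ker L.toLinearMap = I • (⊤ : Submodule B (A ⧸ Ideal.span {s})) := by
    refine le_antisymm (fun m hm => ?_) (Submodule.smul_le.2 fun b hb m _ => ?_)
    · obtain ⟨a, rfl⟩ := Ideal.Quotient.mk_surjective m
      rw [LinearMap.mem_ker, AlgHom.toLinearMap_apply, hLmk, Ideal.Quotient.eq_zero_iff_mem,
        Ideal.mem_span_singleton'] at hm
      obtain ⟨d₀, hd⟩ := hm
      obtain ⟨d, rfl⟩ := hπ d₀
      have h1 : a - d * s ∈ RingHom.ker π := by rw [RingHom.mem_ker, map_sub, map_mul, hd, sub_self]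
      rw [hker] at h1
      obtain ⟨e, he⟩ := Ideal.mem_span_singleton'.1 h1
      have : Ideal.Quotient.mk (Ideal.span {s}) a = (p : B) • Ideal.Quotient.mk (Ideal.span {s}) e := by
        rw [hsm, map_natCast, Ideal.Quotient.eq, Ideal.mem_span_singleton']
        exact ⟨d, by linear_combination he⟩
      rw [this]
      exact Submodule.smul_mem_smul (Ideal.mem_span_singleton_self _) Submodule.mem_top
    · rw [LinearMap.mem_ker, map_smul, ← IsScalarTower.algebraMap_smul (B ⧸ I) b,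
        Ideal.Quotient.algebraMap_eq, Ideal.Quotient.eq_zero_iff_mem.2 hb, zero_smul]
  let E : (B ⧸ I) ⊗[B] (A ⧸ Ideal.span {s}) ≃ₗ[B] A₀ ⧸ Ideal.span {π s} :=
    TensorProduct.quotTensorEquivQuotSMul _ I ≪≫ₗ Submodule.quotEquivOfEq _ _ hkerL.symm ≪≫ₗ
      L.toLinearMap.quotKerEquivOfSurjective hL
  haveI : Module.Flat (B ⧸ I) ((B ⧸ I) ⊗[B] (A ⧸ Ideal.span {s})) :=
    Module.Flat.of_linearEquiv (E.extendScalarsOfSurjective (S := B ⧸ I) Ideal.Quotient.mk_surjective)
  refine H1Fields.flat_of_sq_zero I ?_ ?_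
  · rw [pow_two, Ideal.span_singleton_mul_span_singleton, h2B, Ideal.span_singleton_zero]
  · let P : I := ⟨(p : B), Ideal.mem_span_singleton_self _⟩
    have hall : ∀ z : I ⊗[B] (A ⧸ Ideal.span {s}), ∃ m, z = P ⊗ₜ[B] m := fun z => by
      induction z using TensorProduct.induction_on with
      | zero => exact ⟨0, (TensorProduct.tmul_zero _ _).symm⟩
      | tmul i m =>
        obtain ⟨b, hb⟩ := Ideal.mem_span_singleton'.1 i.2
        refine ⟨b • m, ?_⟩
        rw [TensorProduct.tmul_smul, TensorProduct.smul_tmul']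
        congr 1
        exact Subtype.ext hb.symm
      | add z₁ z₂ h₁ h₂ =>
        obtain ⟨m₁, rfl⟩ := h₁
        obtain ⟨m₂, rfl⟩ := h₂
        exact ⟨m₁ + m₂, (TensorProduct.tmul_add _ _ _).symm⟩
    refine (injective_iff_map_eq_zero _).2 fun z hz => ?_
    obtain ⟨m, rfl⟩ := hall z
    obtain ⟨a, rfl⟩ := Ideal.Quotient.mk_surjective m
    have hz' : (p : B) • Ideal.Quotient.mk (Ideal.span {s}) a = 0 := by
      have := congrArg (TensorProduct.lid B _) hz
      simpa [P] using this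
    rw [hsm, map_natCast, Ideal.Quotient.eq_zero_iff_mem, Ideal.mem_span_singleton'] at hz'
    obtain ⟨d, hd⟩ := hz'
    have hp : π (p : A) = 0 := RingHom.mem_ker.1 (hker.ge (Ideal.mem_span_singleton_self (p : A)))
    have h1 : d ∈ RingHom.ker π := hs _ (by rw [mul_comm, ← map_mul, hd, map_mul, hp, zero_mul])
    rw [hker] at h1
    obtain ⟨d', rfl⟩ := Ideal.mem_span_singleton'.1 h1
    obtain ⟨a', ha'⟩ := hann (a - d' * s) (by linear_combination -hd)
    have : Ideal.Quotient.mk (Ideal.span {s}) a = (p : B) • Ideal.Quotient.mk (Ideal.span {s}) a' := by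
      rw [hsm, map_natCast, Ideal.Quotient.eq, Ideal.mem_span_singleton']
      exact ⟨d', by linear_combination -ha'⟩
    rw [this, ← TensorProduct.smul_tmul, show (p : B) • P = 0 from Subtype.ext h2B, TensorProduct.zero_tmul]

end Groth.Agent.NCDLift
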