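import Groth.Prelude.Def_LogNCD
import Mathlib.AlgebraicGeometry.AffineSpace
import Mathlib.AlgebraicGeometry.Morphisms.Etale
import Mathlib.RingTheory.Regular.Flat
import Mathlib.RingTheory.RingHom.Etale

/-!
# Equations of a relative normal crossing divisor
-/

set_option autoImplicit false
set_option linter.style.haveILetI false
set_option backward.isDefEq.respectTransparency false
set_option backward.isDefEq.respectTransparency.types false
set_option maxHeartbeats 1000000

universe u

open CategoryTheory CategoryTheory.Limits AlgebraicGeometry TopologicalSpace Opposite MvPolynomial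

namespace Groth.Agent.NCDLift

/-- A coordinate under a flat map from a polynomial ring is regular with flat quotient. -/
theorem coord_regular {B A : Type u} [CommRing B] [CommRing A] {σ : Type u} (ρ : MvPolynomial σ B →+* A) (hρ : ρ.Flat)
    (e : σ) :
    (∀ a, ρ (X e) * a = 0 → a = 0) ∧
      ((Ideal.Quotient.mk (Ideal.span {ρ (X e)})).comp (ρ.comp C)).Flat := by
  classical
  letI := ρ.toAlgebra
  haveI : Module.Flat (MvPolynomial σ B) A := hρ
  refine ⟨fun a ha => ?_, ?_⟩
  · have hreg : IsSMulRegular (MvPolynomial σ B) (X e : MvPolynomial σ B) := fun x y h =>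
      (X_mul_cancel_left_iff (p := x) (q := y) (i := e)).1 h
    have h1 := hreg.of_flat (S := A)
    refine (h1 : Function.Injective _) ?_
    show algebraMap _ A (X e) * a = algebraMap _ A (X e) * 0
    rw [mul_zero]
    exact ha
  · let I : Ideal (MvPolynomial σ B) := Ideal.span {X e}
    -- `B → B[X]/(X_e)` is flat
    have hfl : ((Ideal.Quotient.mk I).comp C).Flat := by
      let τ : Type u := {i : σ // i ≠ e}
      let ψ : MvPolynomial σ B →ₐ[B] MvPolynomial τ B := aeval fun i => if h : i = e then 0 else X ⟨i, h⟩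
      let ι : MvPolynomial τ B →ₐ[B] MvPolynomial σ B := rename Subtype.val
      have hψι : ψ.comp ι = AlgHom.id B _ := algHom_ext fun i => by simp [ψ, ι, rename_X, i.2]
      let q := Ideal.Quotient.mkₐ B I
      have hq : (q.comp ι).comp ψ = q := algHom_ext fun i => by
        by_cases h : i = e
        · subst h
          have h0 : q (X i) = 0 := Ideal.Quotient.eq_zero_iff_mem.2 (Ideal.mem_span_singleton_self _)
          simp [ψ, h0]
        · simp [ψ, ι, h]
      have hsurj : Function.Surjective (q.comp ι) := fun y => by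
        obtain ⟨p, rfl⟩ := Ideal.Quotient.mk_surjective y
        exact ⟨ψ p, DFunLike.congr_fun hq p⟩
      have hinj : Function.Injective (q.comp ι) := by
        refine (injective_iff_map_eq_zero _).2 fun x hx => ?_
        have hmem : ι x ∈ I := Ideal.Quotient.eq_zero_iff_mem.1 hx
        obtain ⟨c, hc⟩ := Ideal.mem_span_singleton'.1 hmem
        rw [← show ψ (ι x) = x from DFunLike.congr_fun hψι x, ← hc]
        simp [ψ]
      have hC : (algebraMap B (MvPolynomial τ B)).Flat := RingHom.flat_algebraMap_iff.2 inferInstance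
      have h2 := hC.comp (RingHom.Flat.of_bijective (f := (q.comp ι).toRingHom) ⟨hinj, hsurj⟩)
      convert h2 using 1
      refine RingHom.ext fun b => ?_
      show q (C b) = q (ι (C b))
      simp [ι]
    letI : Algebra B (MvPolynomial σ B ⧸ I) := ((Ideal.Quotient.mk I).comp C).toAlgebra
    let J : Ideal A := Ideal.span {ρ (X e)}
    have hJ : I.map (algebraMap _ A) = J := by rw [Ideal.map_span, Set.image_singleton]; rfl
    let g : MvPolynomial σ B ⧸ I →+* A ⧸ J := Ideal.quotientMap J ρ (Ideal.span_le.2 fun y hy => by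
      rw [Set.mem_singleton_iff] at hy
      subst hy
      exact Ideal.mem_span_singleton_self _)
    have hg : g.Flat := by
      letI := g.toAlgebra
      haveI : IsScalarTower (MvPolynomial σ B) (MvPolynomial σ B ⧸ I) (A ⧸ J) := ⟨fun a b c => by
        obtain ⟨b, rfl⟩ := Ideal.Quotient.mk_surjective b
        obtain ⟨c, rfl⟩ := Ideal.Quotient.mk_surjective c
        show Ideal.Quotient.mk J (ρ (a * b) * c) = Ideal.Quotient.mk J (ρ a * (ρ b * c))
        rw [map_mul ρ, mul_assoc]⟩
      haveI : Module.Flat (MvPolynomial σ B ⧸ I) (TensorProduct (MvPolynomial σ B) (MvPolynomial σ B ⧸ I) A) :=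
        inferInstance
      let E : TensorProduct (MvPolynomial σ B) (MvPolynomial σ B ⧸ I) A ≃ₗ[MvPolynomial σ B] A ⧸ J :=
        ((Algebra.TensorProduct.comm _ _ A).toLinearEquiv ≪≫ₗ
          ((Algebra.TensorProduct.quotIdealMapEquivTensorQuot A I).toLinearEquiv.restrictScalars _).symm) ≪≫ₗ
            (Ideal.quotientEquivAlgOfEq (MvPolynomial σ B) hJ).toLinearEquiv
      exact Module.Flat.of_linearEquiv (E.extendScalarsOfSurjective (S := MvPolynomial σ B ⧸ I) Ideal.Quotient.mk_surjective).symm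
    exact hfl.comp hg

/-- The coordinate ring map of an étale chart over an affine open of the base. -/
theorem exists_coordMap {X S : Scheme.{u}} (f : X ⟶ S) {n : ℕ}
    (W : X.Opens) (v : ULift.{u} (Fin n) → Γ(W, ⊤)) (hv : Etale (AffineSpace.homOfVector (W.ι ≫ f) v))
    {O : S.Opens} (hO : IsAffineOpen O) (U : X.affineOpens) (h : U.1 ≤ W) (hUO : U.1 ≤ f ⁻¹ᵁ O) :
    ∃ ρ : MvPolynomial (ULift.{u} (Fin n)) Γ(S, O) →+* Γ(X, U.1), ρ.Etale ∧
      ρ.comp C = (f.appLE O U.1 hUO).hom ∧ ∀ i, ρ (MvPolynomial.X i) = LogNCD.sectOn W h (v i) := by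
  haveI := hv
  haveI : IsAffine U.1.toScheme := U.2
  haveI : IsAffine O.toScheme := hO
  let g := f.resLE O U.1 hUO
  let v' : ULift.{u} (Fin n) → Γ(U.1.toScheme, ⊤) := fun i => (X.homOfLE h).appTop (v i)
  let ψ' := AffineSpace.homOfVector g v'
  have hcomm : ψ' ≫ AffineSpace.map (ULift.{u} (Fin n)) O.ι = X.homOfLE h ≫ AffineSpace.homOfVector (W.ι ≫ f) v := by
    refine AffineSpace.hom_ext ?_ fun i => ?_
    · rw [Category.assoc, AffineSpace.map_over, Category.assoc, AffineSpace.homOfVector_over,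
        AffineSpace.homOfVector_over_assoc, Scheme.homOfLE_ι_assoc]
      exact Scheme.Hom.resLE_comp_ι f hUO
    · rw [Scheme.Hom.comp_appTop, Scheme.Hom.comp_appTop, CommRingCat.comp_apply, CommRingCat.comp_apply,
        AffineSpace.map_appTop_coord, AffineSpace.homOfVector_appTop_coord, AffineSpace.homOfVector_appTop_coord]
  haveI : IsOpenImmersion (AffineSpace.map (ULift.{u} (Fin n)) O.ι) :=
    MorphismProperty.of_isPullback (P := @IsOpenImmersion) (AffineSpace.isPullback_map O.ι).flip inferInstance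
  have hψ' : Etale ψ' := by
    refine MorphismProperty.of_postcomp (W := @Etale) (W' := @Etale) ψ' (AffineSpace.map _ O.ι) inferInstance ?_
    rw [hcomm]
    infer_instance
  let χ := ψ' ≫ (AffineSpace.isoOfIsAffine (ULift.{u} (Fin n)) O.toScheme).hom
  have hχ : Etale χ := inferInstance
  let P : CommRingCat.{u} := CommRingCat.of (MvPolynomial (ULift.{u} (Fin n)) Γ(O.toScheme, ⊤))
  have hχ' : (Scheme.Hom.appTop (χ : U.1.toScheme ⟶ Spec P)).hom.Etale :=
    (HasRingHomProperty.iff_of_isAffine (P := @Etale)).1 hχ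
  let e := O.topIso.commRingCatIsoToRingEquiv.symm
  let ρ₁ : MvPolynomial (ULift.{u} (Fin n)) Γ(O.toScheme, ⊤) →+* Γ(X, U.1) :=
    (((Scheme.ΓSpecIso P).inv ≫ Scheme.Hom.appTop (χ : U.1.toScheme ⟶ Spec P)) ≫ U.1.topIso.hom).hom
  have hρ₁ : ρ₁.Etale := RingHom.Etale.respectsIso.1 _ U.1.topIso.commRingCatIsoToRingEquiv
      (RingHom.Etale.respectsIso.2 _ (Scheme.ΓSpecIso P).symm.commRingCatIsoToRingEquiv hχ')
  have hval : ∀ p, ρ₁ p = U.1.topIso.hom (ψ'.appTop
      (eval₂Hom ((𝔸(ULift.{u} (Fin n); O.toScheme) ↘ O.toScheme).appTop).hom (AffineSpace.coord O.toScheme) p)) := fun p => by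
    show U.1.topIso.hom (χ.appTop ((Scheme.ΓSpecIso P).inv p)) = _
    simp only [χ, Scheme.Hom.comp_appTop, CommRingCat.comp_apply]
    rw [AffineSpace.isoOfIsAffine_hom_appTop]
    simp only [CommRingCat.comp_apply]
    erw [Iso.inv_hom_id_apply]
    rfl
  refine ⟨ρ₁.comp (MvPolynomial.mapEquiv (ULift.{u} (Fin n)) e).toRingHom,
    RingHom.Etale.respectsIso.2 ρ₁ (MvPolynomial.mapEquiv (ULift.{u} (Fin n)) e) hρ₁,
    RingHom.ext fun b => ?_, fun i => ?_⟩
  · show ρ₁ (MvPolynomial.map e.toRingHom (C b)) = _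
    rw [map_C, hval, eval₂Hom_C]
    show U.1.topIso.hom (ψ'.appTop ((𝔸(ULift.{u} (Fin n); O.toScheme) ↘ O.toScheme).appTop (O.topIso.inv b))) = _
    rw [← CommRingCat.comp_apply _ ψ'.appTop, ← Scheme.Hom.comp_appTop, AffineSpace.homOfVector_over]
    show U.1.topIso.hom (g.app ⊤ (O.topIso.inv b)) = _
    rw [show g.app ⊤ = _ from Scheme.Hom.resLE_app_top f hUO]
    simp only [CommRingCat.comp_apply]
    erw [Iso.inv_hom_id_apply, Iso.inv_hom_id_apply]
  · show ρ₁ (MvPolynomial.map e.toRingHom (MvPolynomial.X i)) = _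
    rw [map_X, hval, eval₂Hom_X']
    erw [AffineSpace.homOfVector_appTop_coord]
    show U.1.topIso.hom ((X.homOfLE h).appTop (v i)) = _
    rw [LogNCD.sectOn_apply, Scheme.Hom.appTop, ← CommRingCat.comp_apply, ← CommRingCat.comp_apply]
    congr 1
    simp [Scheme.homOfLE_app, Scheme.Opens.topIso_hom, ← Functor.map_comp]

theorem ideal_eq_top_of_disjoint {X : Scheme.{u}} (I : X.IdealSheafData) (U : X.affineOpens)
    (h : ∀ x ∈ U.1, x ∉ I.support) : I.ideal U = ⊤ := by
  refine (Ideal.eq_top_iff_one _).2 ?_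
  haveI : Subsingleton Γ(I.subscheme, I.subschemeι ⁻¹ᵁ U.1) := by
    rw [show I.subschemeι ⁻¹ᵁ U.1 = ⊥ from eq_bot_iff.2 fun w hw => (h _ hw (by
      have : I.subschemeι w ∈ Set.range I.subschemeι := ⟨w, rfl⟩
      rwa [Scheme.IdealSheafData.range_subschemeι] at this)).elim]
    infer_instance
  rw [← I.ker_subschemeι_app, RingHom.mem_ker]
  exact Subsingleton.elim _ _

/-- Near every point, each component is cut out by a regular element with quotient flat over the base. -/
theorem exists_equation {X S : Scheme.{u}} (f : X ⟶ S) {r : ℕ} (D : Fin r → X.IdealSheafData)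
    (hD : LogNCD.IsNCD D f) (m : Fin r) (x : X) :
    ∃ W : X.Opens, x ∈ W ∧ ∀ (U : X.affineOpens) (O : S.Opens) (_ : IsAffineOpen O) (_ : U.1 ≤ W) (hUO : U.1 ≤ f ⁻¹ᵁ O),
      ∃ t : Γ(X, U.1), (D m).ideal U = Ideal.span {t} ∧ (∀ a, t * a = 0 → a = 0) ∧
        ((Ideal.Quotient.mk (Ideal.span {t})).comp (f.appLE O U.1 hUO).hom).Flat := by
  by_cases hx : x ∈ (D m).support
  · obtain ⟨W, hxW, n, v, e, -, hv, hid, -⟩ := hD x ⟨⟨m, hx⟩⟩
    refine ⟨W, hxW, fun U O hO hUW hUO => ?_⟩
    obtain ⟨ρ, hρ, hρC, hρX⟩ := exists_coordMap f W v hv hO U hUW hUO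
    have hflat : ρ.Flat := by
      letI := ρ.toAlgebra
      haveI : Algebra.Etale (MvPolynomial (ULift.{u} (Fin n)) Γ(S, O)) Γ(X, U.1) := hρ
      exact (inferInstance : Module.Flat (MvPolynomial (ULift.{u} (Fin n)) Γ(S, O)) Γ(X, U.1))
    obtain ⟨h1, h2⟩ := coord_regular ρ hflat (ULift.up (e ⟨m, hx⟩))
    refine ⟨ρ (MvPolynomial.X (ULift.up (e ⟨m, hx⟩))), ?_, h1, ?_⟩
    · rw [hρX]; exact hid ⟨m, hx⟩ U hUW
    · rwa [hρC] at h2
  · refine ⟨⟨((D m).support : Set X)ᶜ, (D m).support.isClosed.isOpen_compl⟩, hx, fun U O _ hUW hUO => ?_⟩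
    refine ⟨1, ?_, fun a ha => by rwa [one_mul] at ha, ?_⟩
    · rw [Ideal.span_singleton_one]
      exact ideal_eq_top_of_disjoint _ U hUW
    · letI := ((Ideal.Quotient.mk (Ideal.span {(1 : Γ(X, U.1))})).comp (f.appLE O U.1 hUO).hom).toAlgebra
      haveI : Subsingleton (Γ(X, U.1) ⧸ Ideal.span {(1 : Γ(X, U.1))}) :=
        Ideal.Quotient.subsingleton_iff.2 Ideal.span_singleton_one
      exact (inferInstance : Module.Flat Γ(S, O) (Γ(X, U.1) ⧸ Ideal.span {(1 : Γ(X, U.1))}))

end Groth.Agent.NCDLift
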