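import Groth.Agent.NCDLift.Alg
import Groth.Agent.NCDLift.Coord
import Groth.Agent.ArtFunLib.HilbAffine
import Groth.Agent.EmbLift.Ring
import Groth.Agent.S8914

/-!
# Flat lifts of normal crossing components are effective Cartier divisors
-/

set_option autoImplicit false
attribute [-instance] CategoryTheory.catToReflQuiver
set_option linter.style.haveILetI false
set_option backward.isDefEq.respectTransparency false
set_option backward.isDefEq.respectTransparency.types false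
set_option maxHeartbeats 1000000

universe u

open CategoryTheory CategoryTheory.Limits AlgebraicGeometry TopologicalSpace Opposite

namespace Groth.Agent.NCDLift

variable {p : ℕ} [Fact p.Prime]

/-- `ℤ/p² ⟶ 𝔽_p`. -/
noncomputable abbrev redHom (p : ℕ) : CommRingCat.of (Zp2.{u} p) ⟶ CommRingCat.of (ULift.{u} (ZMod p)) :=
  CommRingCat.ofHom ((ZMod.castHom (dvd_pow_self p two_ne_zero) (ULift.{u} (ZMod p))).comp
    (ULift.ringEquiv : Zp2.{u} p ≃+* ZMod (p ^ 2)).toRingHom)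

theorem redHom_surjective : Function.Surjective (redHom.{u} p).hom := fun y =>
  ⟨((ULift.down y).val : Zp2.{u} p), by
    haveI : NeZero p := ⟨(Fact.out : p.Prime).ne_zero⟩
    rw [map_natCast]
    exact ULift.ext _ _ (ZMod.natCast_zmod_val _)⟩

theorem ker_redHom : RingHom.ker (redHom.{u} p).hom = Ideal.span {(p : Zp2.{u} p)} := by
  let e := (ULift.ringEquiv : Zp2.{u} p ≃+* ZMod (p ^ 2))
  refine le_antisymm (fun x hx => ?_) (Ideal.span_le.2 (Set.singleton_subset_iff.2 ?_))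
  · haveI : NeZero (p ^ 2) := ⟨pow_ne_zero 2 (Fact.out : p.Prime).ne_zero⟩
    have h1 : (ZMod.castHom (dvd_pow_self p two_ne_zero) (ULift.{u} (ZMod p))) (e x) = 0 := hx
    rw [← ZMod.natCast_zmod_val (e x), map_natCast] at h1
    have h2 : ((e x).val : ZMod p) = 0 := congrArg ULift.down h1
    obtain ⟨c, hc⟩ := (ZMod.natCast_eq_zero_iff _ _).1 h2
    refine Ideal.mem_span_singleton'.2 ⟨(c : Zp2.{u} p), e.injective ?_⟩
    rw [map_mul, map_natCast, map_natCast, ← Nat.cast_mul, mul_comm, ← hc, ZMod.natCast_zmod_val]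
  · show (redHom.{u} p).hom (p : Zp2.{u} p) = 0
    rw [map_natCast]
    exact ULift.ext _ _ (ZMod.natCast_self p)

theorem surjective_specMap_redHom : Surjective (Spec.map (redHom.{u} p)) := by
  refine ⟨fun x => ?_⟩
  have h : x ∈ Set.range (PrimeSpectrum.comap (redHom.{u} p).hom) := by
    rw [range_comap_of_surjective _ _ redHom_surjective, ker_redHom]
    refine (PrimeSpectrum.mem_zeroLocus _ _).2 (Ideal.span_le.2 (Set.singleton_subset_iff.2 ?_))
    refine x.isPrime.mem_of_pow_mem 2 ?_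
    have : (p : Zp2.{u} p) ^ 2 = 0 := by rw [pow_two]; exact sq_eq_zero (RingHom.id _)
    rw [show (p : CommRingCat.of (Zp2.{u} p)) ^ 2 = 0 from this]
    exact zero_mem _
  exact h

variable {T T₀ : Scheme.{u}} {q : T ⟶ Spec (CommRingCat.of (Zp2.{u} p))} {j : T₀ ⟶ T}
  {q₀ : T₀ ⟶ Spec (CommRingCat.of (ULift.{u} (ZMod p)))} (hsq : IsPullback j q₀ q (Spec.map (redHom.{u} p)))

include hsq in
theorem isClosedImmersion_of_red : IsClosedImmersion j := by
  haveI := IsClosedImmersion.spec_of_surjective (redHom.{u} p) redHom_surjective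
  exact MorphismProperty.of_isPullback (P := @IsClosedImmersion) hsq.flip inferInstance

include hsq in
theorem surjective_of_red : Surjective j :=
  MorphismProperty.of_isPullback (P := @Surjective) hsq.flip surjective_specMap_redHom

include hsq in
theorem app_red (V : T.affineOpens) :
    Function.Surjective (j.app V.1).hom ∧ RingHom.ker (j.app V.1).hom = Ideal.span {(p : Γ(T, V.1))} := by
  have h := ArtFunLib.HilbAffine.ker_appLE_of_isPullback (φ := redHom.{u} p) redHom_surjective hsq V (j ⁻¹ᵁ V.1) rfl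
    le_rfl
  rw [← Scheme.Hom.app_eq_appLE, ker_redHom, Ideal.map_span, Set.image_singleton, map_natCast] at h
  exact h

theorem ann_sections [Flat q] (V : T.affineOpens) (a : Γ(T, V.1)) (h : (p : Γ(T, V.1)) * a = 0) :
    ∃ b, a = (p : Γ(T, V.1)) * b :=
  ann_of_flat (EmbLift.cst q V.1) (EmbLift.cst_flat q V) a h

theorem sq_sections (q : T ⟶ Spec (CommRingCat.of (Zp2.{u} p))) (V : T.Opens) : (p : Γ(T, V)) * p = 0 :=
  sq_eq_zero (EmbLift.cst q V)

theorem exists_affine_le {Y : Scheme.{u}} (W : Y.Opens) (y : Y) (hy : y ∈ W) : ∃ V : Y.affineOpens, y ∈ V.1 ∧ V.1 ≤ W := by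
  obtain ⟨_, ⟨V, hV, rfl⟩, hyV, hVW⟩ := Y.isBasis_affineOpens.exists_subset_of_mem_open hy W.2
  exact ⟨⟨V, hV⟩, hyV, hVW⟩

theorem flat_iff_invertible (Sl : Scheme.{u}) (gS : Sl ⟶ Spec (CommRingCat.of (Zp2.{u} p))) [Flat gS]
    (S : Scheme.{u}) (iS : S ⟶ Sl) (fS : S ⟶ Spec (CommRingCat.of (ULift.{u} (ZMod p))))
    (hS : IsPullback iS fS gS (Spec.map (redHom.{u} p)))
    {X : Scheme.{u}} (f : X ⟶ S) {r : ℕ} (D : Fin r → X.IdealSheafData) (hD : LogNCD.IsNCD D f)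
    {Xl : Scheme.{u}} (g : Xl ⟶ Sl) [Flat g] (j : X ⟶ Xl) (hX : IsPullback j f g iS)
    (Dl : Fin r → Xl.IdealSheafData) (hDl : ∀ m, (Dl m).comap j = D m) (m : Fin r) :
    Flat ((Dl m).subschemeι ≫ g) ↔ PicF.IsInvertible (ClSub.idealMod (Dl m)) := by
  classical
  have hsq : IsPullback j (f ≫ fS) (g ≫ gS) (Spec.map (redHom.{u} p)) := hX.paste_vert hS
  haveI := isClosedImmersion_of_red hsq
  haveI := surjective_of_red hsq
  haveI := isClosedImmersion_of_red hS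
  -- a neighbourhood in which all affine opens carry an equation
  have hloc : ∀ y : Xl, ∃ (W : Xl.Opens) (O : Sl.affineOpens), y ∈ W ∧ ∀ (V : Xl.affineOpens) (hV : V.1 ≤ W),
      ∃ (hVO : V.1 ≤ g ⁻¹ᵁ O.1) (hUO : j ⁻¹ᵁ V.1 ≤ f ⁻¹ᵁ (iS ⁻¹ᵁ O.1)) (t : Γ(X, j ⁻¹ᵁ V.1)),
        ((Dl m).ideal V).map (j.app V.1).hom = Ideal.span {t} ∧ (∀ a, t * a = 0 → a = 0) ∧
        (∀ b, j.app V.1 (g.appLE O.1 V.1 hVO b) = f.appLE (iS ⁻¹ᵁ O.1) (j ⁻¹ᵁ V.1) hUO (iS.app O.1 b)) ∧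
        ((Ideal.Quotient.mk (Ideal.span {t})).comp (f.appLE (iS ⁻¹ᵁ O.1) (j ⁻¹ᵁ V.1) hUO).hom).Flat := by
    intro y
    obtain ⟨x, rfl⟩ := j.surjective y
    obtain ⟨W₀, hxW₀, hW₀⟩ := exists_equation f D hD m x
    obtain ⟨W', hW', hW'e⟩ := j.isClosedEmbedding.isInducing.isOpen_iff.1 W₀.2
    obtain ⟨O, hxO, -⟩ := exists_affine_le (⊤ : Sl.Opens) (g (j x)) trivial
    refine ⟨⟨W', hW'⟩ ⊓ g ⁻¹ᵁ O.1, O, ⟨?_, hxO⟩, fun V hV => ?_⟩
    · have : x ∈ j ⁻¹' W' := hW'e.symm ▸ hxW₀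
      exact this
    have hVO : V.1 ≤ g ⁻¹ᵁ O.1 := hV.trans inf_le_right
    have hUO : j ⁻¹ᵁ V.1 ≤ f ⁻¹ᵁ (iS ⁻¹ᵁ O.1) := fun z hz => by
      show (f ≫ iS) z ∈ O.1
      rw [← hX.w]
      exact hVO hz
    obtain ⟨t, ht, hreg, hfl⟩ := hW₀ ⟨j ⁻¹ᵁ V.1, V.2.preimage j⟩ (iS ⁻¹ᵁ O.1) (O.2.preimage iS) (fun z hz => by
      have : z ∈ j ⁻¹' W' := (hV hz).1
      rwa [hW'e] at this) hUO
    refine ⟨hVO, hUO, t, ?_, hreg, fun b => ?_, hfl⟩
    · rw [← ht, ← hDl m, ModPairLib.ideal_comap (Dl m) j V ⟨j ⁻¹ᵁ V.1, V.2.preimage j⟩ le_rfl,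
        Scheme.Hom.app_eq_appLE]
    · have h1 : g.appLE O.1 V.1 hVO ≫ j.app V.1 = iS.app O.1 ≫ f.appLE (iS ⁻¹ᵁ O.1) (j ⁻¹ᵁ V.1) hUO := by
        rw [Scheme.Hom.app_eq_appLE, Scheme.Hom.appLE_comp_appLE]
        simp only [hX.w]
        exact Scheme.Hom.comp_appLE f iS O.1 (j ⁻¹ᵁ V.1) _
      exact congr($h1 b)
  constructor
  · intro hflat
    rw [Groth.Agent.S8914.result]
    intro y
    obtain ⟨W, O, hyW, hW⟩ := hloc y
    obtain ⟨V, hyV, hVW⟩ := exists_affine_le W y hyW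
    obtain ⟨hVO, hUO, t, hJt, hreg, -, -⟩ := hW V hVW
    obtain ⟨hsur, hker⟩ := app_red hsq V
    haveI : Flat ((Dl m).subschemeι ≫ g ≫ gS) := by
      rw [← Category.assoc]; infer_instance
    have hJ : ∀ a, (p : Γ(Xl, V.1)) * a ∈ (Dl m).ideal V → ∃ b, a - (p : Γ(Xl, V.1)) * b ∈ (Dl m).ideal V := by
      intro a ha
      let e := ((Dl m).subschemeObjIso V)
      obtain ⟨b', hb'⟩ := ann_sections (q := (Dl m).subschemeι ≫ g ≫ gS) ⟨(Dl m).subschemeι ⁻¹ᵁ V.1, V.2.preimage _⟩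
        ((Dl m).subschemeι.app V.1 a) (by
          rw [← map_natCast ((Dl m).subschemeι.app V.1).hom, ← map_mul, ← RingHom.mem_ker,
            Scheme.IdealSheafData.ker_subschemeι_app]
          exact ha)
      obtain ⟨b, rfl⟩ := (Dl m).subschemeι_app_surjective V b'
      refine ⟨b, ?_⟩
      rw [← Scheme.IdealSheafData.ker_subschemeι_app, RingHom.mem_ker, map_sub, map_mul, map_natCast, sub_eq_zero]
      exact hb'
    obtain ⟨s, hs, hsreg⟩ := exists_generator (j.app V.1).hom hsur hker (ann_sections (q := g ≫ gS) V)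
      (sq_sections (g ≫ gS) V.1) ((Dl m).ideal V) hJ hJt hreg
    exact ⟨V, hyV, s, mem_nonZeroDivisors_iff_right.2 fun a ha => hsreg a (by rwa [mul_comm]), hs⟩
  · intro hinv
    rw [Groth.Agent.S8914.result] at hinv
    rw [HasRingHomProperty.iff_exists_appLE (P := @Flat) (RingHom.Flat.stableUnderComposition.stableUnderCompositionWithLocalizationAway
      RingHom.Flat.holdsForLocalizationAway).left]
    intro w
    obtain ⟨W, O, hyW, hW⟩ := hloc ((Dl m).subschemeι w)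
    obtain ⟨V₁, hyV₁, s, hs, hV₁⟩ := hinv ((Dl m).subschemeι w)
    obtain ⟨V, hyV, hVW⟩ := exists_affine_le (W ⊓ V₁.1) _ ⟨hyW, hyV₁⟩
    obtain ⟨hVO, hUO, t, hJt, hreg, hcomm, hfl⟩ := hW V (hVW.trans inf_le_left)
    obtain ⟨hsur, hker⟩ := app_red hsq V
    obtain ⟨hsurS, hkerS⟩ := app_red hS O
    let s' : Γ(Xl, V.1) := Xl.presheaf.map (homOfLE (hVW.trans inf_le_right)).op s
    have hJs : (Dl m).ideal V = Ideal.span {s'} := by
      rw [← (Dl m).map_ideal (U := V) (V := V₁) (hVW.trans inf_le_right), hV₁, Ideal.map_span, Set.image_singleton]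
      rfl
    have hts : Ideal.span {j.app V.1 s'} = Ideal.span {t} := by
      rw [← hJt, hJs, Ideal.map_span, Set.image_singleton]
    have hs' : ∀ a, j.app V.1 s' * a = 0 → a = 0 := fun a ha => by
      obtain ⟨c, hc⟩ := Ideal.mem_span_singleton'.1 (hts.ge (Ideal.mem_span_singleton_self t))
      exact hreg a (by rw [← hc, mul_assoc, ha, mul_zero])
    have hflV := flat_quotient (j.app V.1).hom (iS.app O.1).hom hsurS hkerS (sq_sections gS O.1)
      (g.appLE O.1 V.1 hVO).hom (f.appLE (iS ⁻¹ᵁ O.1) (j ⁻¹ᵁ V.1) hUO).hom hcomm hsur hker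
      (ann_sections (q := g ≫ gS) V) hs' (by rw [hts]; exact hfl)
    refine ⟨O, ⟨(Dl m).subschemeι ⁻¹ᵁ V.1, V.2.preimage _⟩, hyV, fun z hz => hVO hz, ?_⟩
    rw [← Scheme.Hom.appLE_comp_appLE (Dl m).subschemeι g O.1 V.1 _ hVO le_rfl, ← Scheme.Hom.app_eq_appLE,
      Scheme.IdealSheafData.subschemeι_app]
    rw [← hJs] at hflV
    have h2 := hflV.comp (RingHom.Flat.of_bijective
      (ConcreteCategory.bijective_of_isIso ((Dl m).subschemeObjIso V).inv))
    exact h2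

end Groth.Agent.NCDLift
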