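import Groth.Agent.NCDLift.Flat
import Groth.Agent.SmDef.Local
import Groth.Agent.MorLib.Thick.Affine

/-!
# Local lifts of a normal crossing divisor
-/

set_option autoImplicit false
attribute [-instance] CategoryTheory.catToReflQuiver
set_option linter.style.haveILetI false
set_option backward.isDefEq.respectTransparency false
set_option backward.isDefEq.respectTransparency.types false
set_option maxHeartbeats 1000000

universe u

open CategoryTheory CategoryTheory.Limits AlgebraicGeometry TopologicalSpace Opposite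

namespace Groth.Agent.NCDLift

variable {p : ℕ} [Fact p.Prime]

theorem exists_local_lift_ncd (Sl : Scheme.{u}) (gS : Sl ⟶ Spec (CommRingCat.of (Zp2.{u} p))) [Flat gS]
    (S : Scheme.{u}) (iS : S ⟶ Sl) (fS : S ⟶ Spec (CommRingCat.of (ULift.{u} (ZMod p))))
    (hS : IsPullback iS fS gS (Spec.map (redHom.{u} p)))
    {X : Scheme.{u}} (f : X ⟶ S) [Smooth f] {r : ℕ} (D : Fin r → X.IdealSheafData) (hD : LogNCD.IsNCD D f) (x : X) :
    ∃ U : X.Opens, x ∈ U ∧ ∃ (Ul : Scheme.{u}) (g : Ul ⟶ Sl) (j : (U : Scheme.{u}) ⟶ Ul),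
      Flat g ∧ IsPullback j (U.ι ≫ f) g iS ∧
        ∃ Dl : Fin r → Ul.IdealSheafData, ∀ m, (Dl m).comap j = (D m).comap U.ι ∧ Flat ((Dl m).subschemeι ≫ g) := by
  classical
  haveI := isClosedImmersion_of_red hS
  choose W hxW hW using fun m => exists_equation f D hD m x
  obtain ⟨O, hxO, -⟩ := exists_affine_le (⊤ : Sl.Opens) (iS (f x)) trivial
  let W' : X.Opens := f ⁻¹ᵁ (iS ⁻¹ᵁ O.1) ⊓ Finset.univ.inf W
  have hxW' : x ∈ W' := ⟨hxO, by
    show x ∈ ((Finset.univ.inf W : X.Opens) : Set X)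
    rw [Opens.coe_finset_inf]
    simp only [Finset.inf_eq_iInf, Set.iInf_eq_iInter, Set.mem_iInter]
    exact fun m _ => hxW m⟩
  obtain ⟨U, hxU, hUW'⟩ := exists_affine_le W' x hxW'
  have hUO : U.1 ≤ f ⁻¹ᵁ (iS ⁻¹ᵁ O.1) := hUW'.trans inf_le_left
  obtain ⟨L, jL, g, hsq, hsm⟩ := SmDef.exists_local_lift iS f U.2 O.2 hUO
  haveI := hsm
  haveI hflg : Flat g := inferInstance
  have hsq' : IsPullback jL ((U.1.ι ≫ f) ≫ fS) (g ≫ gS) (Spec.map (redHom.{u} p)) := hsq.paste_vert hS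
  haveI := isClosedImmersion_of_red hsq'
  haveI := surjective_of_red hsq'
  haveI : IsAffine (U.1 : Scheme.{u}) := U.2
  haveI : IsAffine L := MorLib.Thick.isAffine_of_thickening jL jL.surjective
  refine ⟨U.1, hxU, L, g, jL, hflg, hsq, ?_⟩
  choose t ht hreg hfl using fun m => hW m U (iS ⁻¹ᵁ O.1) (O.2.preimage iS)
    (hUW'.trans (inf_le_right.trans (Finset.inf_le (Finset.mem_univ m)))) hUO
  choose s hs using fun m => (jL.app_surjective ⊤ (isAffineOpen_top L)) (U.1.topIso.inv (t m))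
  refine ⟨fun m => Scheme.IdealSheafData.ofIdealTop (Ideal.span {s m}), fun m => ⟨?_, ?_⟩⟩
  · have hle : (⊤ : (U.1 : Scheme.{u}).Opens) ≤ U.1.ι ⁻¹ᵁ U.1 := fun z _ => z.2
    refine Scheme.IdealSheafData.ext_of_isAffine ?_
    rw [ModPairLib.ideal_comap _ jL ⟨⊤, isAffineOpen_top L⟩ ⟨⊤, isAffineOpen_top _⟩ le_rfl,
      ModPairLib.ideal_comap (D m) U.1.ι U ⟨⊤, isAffineOpen_top _⟩ hle, ht,
      Scheme.IdealSheafData.ofIdealTop_ideal, Ideal.map_map, Ideal.map_span, Set.image_singleton, Ideal.map_span,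
      Set.image_singleton]
    congr 2
    rw [RingHom.comp_apply]
    have h1 : U.1.ι.appLE U.1 ⊤ hle (t m) = U.1.topIso.inv (t m) := by
      simp [Scheme.Opens.ι_appLE, Scheme.Opens.topIso_inv]
      rfl
    refine Eq.trans ?_ h1.symm
    refine Eq.trans ?_ (hs m)
    rw [Scheme.Hom.app_eq_appLE]
    congr 1
    exact congr($(L.presheaf.map_id (op ⊤)) (s m))
  · rw [HasRingHomProperty.iff_exists_appLE (P := @Flat) (RingHom.Flat.stableUnderComposition.stableUnderCompositionWithLocalizationAway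
      RingHom.Flat.holdsForLocalizationAway).left]
    intro w
    have hgO : (⊤ : L.Opens) ≤ g ⁻¹ᵁ O.1 := fun z _ => by
      obtain ⟨y, rfl⟩ := jL.surjective z
      show (jL ≫ g) y ∈ O.1
      rw [hsq.w]
      exact hUO y.2
    have hUO' : (⊤ : (U.1 : Scheme.{u}).Opens) ≤ (U.1.ι ≫ f) ⁻¹ᵁ (iS ⁻¹ᵁ O.1) := fun z _ => hUO z.2
    obtain ⟨hsur, hker⟩ := app_red hsq' ⟨⊤, isAffineOpen_top L⟩
    obtain ⟨hsurS, hkerS⟩ := app_red hS O
    have hcomm : ∀ b, jL.app ⊤ (g.appLE O.1 ⊤ hgO b) = (U.1.ι ≫ f).appLE (iS ⁻¹ᵁ O.1) ⊤ hUO' (iS.app O.1 b) := by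
      intro b
      have h1 : g.appLE O.1 ⊤ hgO ≫ jL.app ⊤ = iS.app O.1 ≫ (U.1.ι ≫ f).appLE (iS ⁻¹ᵁ O.1) ⊤ hUO' := by
        rw [Scheme.Hom.app_eq_appLE, Scheme.Hom.appLE_comp_appLE]
        simp only [hsq.w]
        exact Scheme.Hom.comp_appLE (U.1.ι ≫ f) iS O.1 ⊤ _
      exact congr($h1 b)
    let e := U.1.topIso.commRingCatIsoToRingEquiv.symm
    have he : ((U.1.ι ≫ f).appLE (iS ⁻¹ᵁ O.1) ⊤ hUO').hom = e.toRingHom.comp (f.appLE (iS ⁻¹ᵁ O.1) U.1 hUO).hom := by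
      refine RingHom.ext fun b => ?_
      show _ = U.1.topIso.inv (f.appLE (iS ⁻¹ᵁ O.1) U.1 hUO b)
      rw [← Scheme.Hom.appLE_comp_appLE U.1.ι f (iS ⁻¹ᵁ O.1) U.1 ⊤ hUO (fun z _ => z.2)]
      simp [Scheme.Opens.ι_appLE, Scheme.Opens.topIso_inv]
      refine (congr($(Scheme.Hom.appLE_map (f := f) hUO (eqToHom (Scheme.Opens.ι_image_top U.1)).op) b)).symm.trans ?_
      rw [CommRingCat.comp_apply, eqToHom_op]
      rfl
    have hs' : ∀ a, jL.app ⊤ (s m) * a = 0 → a = 0 := fun a ha => by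
      rw [hs] at ha
      refine e.symm.injective ?_
      rw [map_zero]
      refine hreg m _ ?_
      have := congrArg e.symm ha
      rw [map_mul, map_zero] at this
      rwa [show e.symm (U.1.topIso.inv (t m)) = t m from e.symm_apply_apply (t m)] at this
    have hflat₀ : ((Ideal.Quotient.mk (Ideal.span {jL.app ⊤ (s m)})).comp
        ((U.1.ι ≫ f).appLE (iS ⁻¹ᵁ O.1) ⊤ hUO').hom).Flat := by
      rw [he, hs]
      let q := Ideal.quotientEquiv (Ideal.span {t m}) (Ideal.span {U.1.topIso.inv (t m)}) e (by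
        rw [Ideal.map_span, Set.image_singleton]; rfl)
      exact (hfl m).comp (RingHom.Flat.of_bijective (f := q.toRingHom) q.bijective)
    have hflV := flat_quotient (jL.app ⊤).hom (iS.app O.1).hom hsurS hkerS (sq_sections gS O.1)
      (g.appLE O.1 ⊤ hgO).hom ((U.1.ι ≫ f).appLE (iS ⁻¹ᵁ O.1) ⊤ hUO').hom hcomm hsur hker
      (ann_sections (q := g ≫ gS) ⟨⊤, isAffineOpen_top L⟩) hs' hflat₀
    let J : L.IdealSheafData := Scheme.IdealSheafData.ofIdealTop (Ideal.span {s m})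
    have hJ : J.ideal ⟨⊤, isAffineOpen_top L⟩ = Ideal.span {s m} := by
      rw [Scheme.IdealSheafData.ofIdealTop_ideal]
      convert Ideal.map_id (Ideal.span {s m}) using 2
      exact congrArg CommRingCat.Hom.hom (L.presheaf.map_id (op ⊤))
    refine ⟨O, ⟨J.subschemeι ⁻¹ᵁ ⊤, (isAffineOpen_top L).preimage _⟩, trivial,
      fun z _ => hgO (show J.subschemeι z ∈ (⊤ : L.Opens) from trivial), ?_⟩
    rw [← Scheme.Hom.appLE_comp_appLE J.subschemeι g O.1 ⊤ _ hgO le_rfl, ← Scheme.Hom.app_eq_appLE,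
      Scheme.IdealSheafData.subschemeι_app J ⟨⊤, isAffineOpen_top L⟩]
    rw [← hJ] at hflV
    exact hflV.comp (RingHom.Flat.of_bijective
      (ConcreteCategory.bijective_of_isIso (J.subschemeObjIso ⟨⊤, isAffineOpen_top L⟩).inv))

end Groth.Agent.NCDLift
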